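import Mathlib
import Groth.Prelude.Def_CAlg
import Groth.Prelude.Def_GrSyz
import Groth.Agent.Gor18.Dim
import Groth.Agent.Gor18.GlobalDim
import Groth.Agent.Gor18.Local
import Groth.Agent.CAlg1.CMPoly
import Groth.Agent.EGA4Alg4.CMMod
import Groth.Agent.EGA4Alg4.Semilocal
import Groth.Agent.Cyc90.CMDim
import Groth.Agent.EGA4H10.Catenary
import Groth.Agent.LC17.Faltings
import Groth.Agent.Grass54.GlueCM

/-!
Unmixedness of Cohen–Macaulay quotients, double annihilators over Gorenstein rings.
-/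

set_option autoImplicit false
universe u

open IsLocalRing

namespace Groth.Agent.Liaison54

theorem cm_of_gor (A : Type u) [CommRing A] [LocCoh.IsGorensteinRing A] : LocCoh.IsCohenMacaulayRing A where
  isCohenMacaulayLocalRing_localization p _ := by
    haveI := LocCoh.IsGorensteinRing.isGorensteinLocalRing_localization (A := A) p
    exact Gor18.gor_cm _

/-- A Cohen–Macaulay ring has no embedded associated primes. -/
theorem ass_minimal_cm {A : Type u} [CommRing A] [LocCoh.IsCohenMacaulayRing A] {p : Ideal A}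
    (hp : p ∈ associatedPrimes A A) : p ∈ minimalPrimes A := by
  haveI : IsNoetherianRing A := (inferInstance : LocCoh.IsCohenMacaulayRing A).toIsNoetherian
  haveI := hp.isPrime
  have hL := LocCoh.IsCohenMacaulayRing.isCohenMacaulayLocalRing_localization p
  haveI : IsNoetherianRing (Localization.AtPrime p) := hL.toIsNoetherian
  have hm : maximalIdeal (Localization.AtPrime p) ∈
      associatedPrimes (Localization.AtPrime p) (Localization.AtPrime p) := by
    refine Module.associatedPrimes.mem_associatedPrimes_of_comap_mem_associatedPrimes_of_isLocalizedModule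
      p.primeCompl (Algebra.linearMap A (Localization.AtPrime p)) _ ?_
    rw [show Ideal.comap (algebraMap A (Localization.AtPrime p)) (maximalIdeal _) = p from
      IsLocalization.AtPrime.under_maximalIdeal (Localization.AtPrime p) p]
    exact hp
  have h := EGA4Alg4.ringKrullDim_quotient_assoc
    (show LocCoh.IsCohenMacaulayModule (Localization.AtPrime p) (Localization.AtPrime p) from hL.supportDim_eq_depth) hm
  letI : Field (Localization.AtPrime p ⧸ maximalIdeal (Localization.AtPrime p)) := Ideal.Quotient.field _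
  rw [ringKrullDim_eq_zero_of_field, Module.supportDim_self_eq_ringKrullDim,
    IsLocalization.AtPrime.ringKrullDim_eq_height p] at h
  exact Ideal.height_eq_zero_iff.1 (by exact_mod_cast h.symm)

theorem colon_bot_mk {R : Type u} [CommRing R] (I : Ideal R) (r : R) :
    ((⊥ : Submodule R (R ⧸ I)).colon {Ideal.Quotient.mk I r}) = I.colon {r} := by
  ext a
  rw [Submodule.mem_colon_singleton, Submodule.mem_colon_singleton, Submodule.mem_bot, Algebra.smul_def,
    Ideal.Quotient.algebraMap_eq, ← map_mul, Ideal.Quotient.eq_zero_iff_mem, smul_eq_mul]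

theorem le_of_mem_ass {R : Type u} [CommRing R] {I P : Ideal R} (hP : P ∈ associatedPrimes R (R ⧸ I)) : I ≤ P := by
  obtain ⟨x, hx⟩ := hP.2
  intro a ha
  rw [hx]
  refine Ideal.le_radical ?_
  obtain ⟨r, rfl⟩ := Ideal.Quotient.mk_surjective x
  rw [colon_bot_mk, Submodule.mem_colon_singleton]
  exact I.mul_mem_right r ha

theorem ass_quot_minimal {R : Type u} [CommRing R] [IsNoetherianRing R] {I P : Ideal R}
    [LocCoh.IsCohenMacaulayRing (R ⧸ I)] (hP : P ∈ associatedPrimes R (R ⧸ I)) : P ∈ I.minimalPrimes := by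
  have hle := le_of_mem_ass hP
  haveI := hP.isPrime
  obtain ⟨x, hx⟩ := (isAssociatedPrime_iff.1 hP).2
  set π := Ideal.Quotient.mk I
  have hcomap : (P.map π).comap π = P := by
    rw [Ideal.comap_map_of_surjective _ Ideal.Quotient.mk_surjective, ← RingHom.ker_eq_comap_bot, Ideal.mk_ker,
      sup_eq_left.2 hle]
  haveI : (P.map π).IsPrime :=
    Ideal.map_isPrime_of_surjective Ideal.Quotient.mk_surjective (by rw [Ideal.mk_ker]; exact hle)
  have hm : P.map π ∈ associatedPrimes (R ⧸ I) (R ⧸ I) := by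
    refine isAssociatedPrime_iff.2 ⟨inferInstance, x, ?_⟩
    ext q
    obtain ⟨a, rfl⟩ := Ideal.Quotient.mk_surjective q
    rw [← Ideal.mem_comap, hcomap, hx, Submodule.mem_colon_singleton, Submodule.mem_colon_singleton,
      Submodule.mem_bot, Submodule.mem_bot]
    exact Iff.rfl
  have hmin := ass_minimal_cm hm
  refine ⟨⟨inferInstance, hle⟩, fun Q hQ hQP => ?_⟩
  haveI := hQ.1
  haveI : (Q.map π).IsPrime :=
    Ideal.map_isPrime_of_surjective Ideal.Quotient.mk_surjective (by rw [Ideal.mk_ker]; exact hQ.2)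
  have h2 := hmin.2 ⟨inferInstance, bot_le⟩ (Ideal.map_mono hQP)
  have h3 := Ideal.comap_mono (f := π) h2
  rwa [hcomap, Ideal.comap_map_of_surjective _ Ideal.Quotient.mk_surjective, ← RingHom.ker_eq_comap_bot,
    Ideal.mk_ker, sup_eq_left.2 hQ.2] at h3

theorem minimal_mem_ass {R : Type u} [CommRing R] [IsNoetherianRing R] {I P : Ideal R} (hP : P ∈ I.minimalPrimes) :
    P ∈ associatedPrimes R (R ⧸ I) := by
  refine Module.associatedPrimes.minimalPrimes_annihilator_subset_associatedPrimes R (R ⧸ I) ?_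
  rwa [Ideal.annihilator_quotient]

theorem exists_ass_colon {R : Type u} [CommRing R] [IsNoetherianRing R] {I : Ideal R} {r : R} (hr : r ∉ I) :
    ∃ P ∈ associatedPrimes R (R ⧸ I), I.colon {r} ≤ P := by
  obtain ⟨P, hP, hle⟩ := exists_le_isAssociatedPrime_of_isNoetherianRing R (Ideal.Quotient.mk I r)
    (fun h => hr (Ideal.Quotient.eq_zero_iff_mem.1 h))
  exact ⟨P, hP, by rwa [colon_bot_mk] at hle⟩

theorem annihilator_annihilator_le {A : Type u} [CommRing A] [IsArtinianRing A] [IsLocalRing A]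
    [LocCoh.IsGorensteinLocalRing A] (a : Ideal A) {y : A}
    (hy : ∀ z : A, (∀ t ∈ a, z * t = 0) → y * z = 0) : y ∈ a := by
  by_contra hya
  have hinj : Module.Injective A A := Gor18.injective_of_socle_ne_bot Gor18.socle_ne_bot_of_isArtinianRing
  obtain ⟨e, he, he0⟩ := (Submodule.ne_bot_iff _).1 (Gor18.socle_ne_bot_of_isArtinianRing (A := A))
  set g : A →ₗ[A] A ⧸ a := LinearMap.toSpanSingleton A (A ⧸ a) (Ideal.Quotient.mk a y)
  have hker : LinearMap.ker g ≤ LinearMap.ker (LinearMap.toSpanSingleton A A e) := by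
    intro c hc
    rw [LinearMap.mem_ker, LinearMap.toSpanSingleton_apply] at hc ⊢
    rw [Algebra.smul_def, Ideal.Quotient.algebraMap_eq, ← map_mul, Ideal.Quotient.eq_zero_iff_mem] at hc
    have hcm : c ∈ maximalIdeal A := by
      rw [mem_maximalIdeal]
      intro hu
      exact hya ((Ideal.unit_mul_mem_iff_mem _ hu).1 hc)
    exact (Submodule.mem_torsionBySet_iff _ _).1 he ⟨c, hcm⟩
  let f₀ : LinearMap.range g →ₗ[A] A :=
    ((LinearMap.ker g).liftQ _ hker).comp g.quotKerEquivRange.symm.toLinearMap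
  obtain ⟨φ, hφ⟩ := hinj.out (LinearMap.range g).subtype Subtype.val_injective f₀
  have hφy : φ (Ideal.Quotient.mk a y) = e := by
    have h := hφ ⟨g 1, LinearMap.mem_range_self g 1⟩
    have h1 : g 1 = Ideal.Quotient.mk a y := by simp [g]
    rw [Submodule.subtype_apply] at h
    simp only [h1] at h
    rw [h]
    change (LinearMap.ker g).liftQ _ hker (g.quotKerEquivRange.symm ⟨Ideal.Quotient.mk a y, _⟩) = e
    have h2 : g.quotKerEquivRange.symm ⟨Ideal.Quotient.mk a y, h1 ▸ LinearMap.mem_range_self g 1⟩ =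
        (LinearMap.ker g).mkQ 1 := by
      rw [LinearEquiv.symm_apply_eq]
      exact Subtype.ext h1.symm
    rw [h2, Submodule.mkQ_apply, Submodule.liftQ_apply, LinearMap.toSpanSingleton_apply, one_smul]
  refine he0 (hφy ▸ ?_)
  set z := φ (Ideal.Quotient.mk a 1)
  have hsmul : ∀ c : A, φ (Ideal.Quotient.mk a c) = c * z := fun c => by
    rw [← smul_eq_mul, ← map_smul, Algebra.smul_def, Ideal.Quotient.algebraMap_eq, ← map_mul, mul_one]
  rw [hsmul]
  exact hy z fun t ht => by
    rw [mul_comm, ← hsmul, Ideal.Quotient.eq_zero_iff_mem.2 ht, map_zero]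

theorem artinian_loc_minimal {B : Type u} [CommRing B] [IsNoetherianRing B] (p : Ideal B) [p.IsPrime]
    (hp : p ∈ minimalPrimes B) : IsArtinianRing (Localization.AtPrime p) := by
  rw [isArtinianRing_iff_krullDimLE_zero]
  refine Ring.krullDimLE_iff.2 ?_
  rw [IsLocalization.AtPrime.ringKrullDim_eq_height p, Ideal.height_eq_zero_iff.2 hp]
  simp

variable {K : Type u} [Field K] {n : ℕ}

theorem homog_coeff_zero {I : Ideal (MvPolynomial (Fin (n + 1)) K)}
    (hI : I.IsHomogeneous (GrSyz.stdGr K (Fin (n + 1)))) (hne : I ≠ ⊤) :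
    ∀ f ∈ I, MvPolynomial.constantCoeff f = 0 := by
  intro f hf
  by_contra hc
  refine hne (Ideal.eq_top_of_isUnit_mem I ?_ ((isUnit_iff_ne_zero.2 hc).map MvPolynomial.C))
  have h0 := hI 0 hf
  have hproj : (DirectSum.decompose (GrSyz.stdGr K (Fin (n + 1))) f 0 : MvPolynomial (Fin (n + 1)) K) =
      MvPolynomial.C (MvPolynomial.constantCoeff f) := by
    classical
    refine MvPolynomial.ext _ _ fun d => ?_
    letI := MvPolynomial.weightedGradedAlgebra K (fun _ : Fin (n + 1) => (1 : ℤ))
    change MvPolynomial.coeff d ((MvPolynomial.weightedDecomposition K (fun _ : Fin (n + 1) => (1 : ℤ))).decompose' f 0 :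
      MvPolynomial (Fin (n + 1)) K) = _
    rw [MvPolynomial.weightedDecomposition.decompose'_apply, MvPolynomial.coeff_weightedHomogeneousComponent,
      MvPolynomial.coeff_C]
    rcases eq_or_ne d 0 with rfl | hd
    · simp [MvPolynomial.constantCoeff_eq]
    · rw [if_neg (Ne.symm hd), if_neg]
      intro hw
      refine hd (Finsupp.ext fun i => ?_)
      by_contra hi
      simp only [Finsupp.weight_apply, Finsupp.sum, nsmul_eq_mul, mul_one] at hw
      rw [← Nat.cast_sum, Nat.cast_eq_zero, Finset.sum_eq_zero_iff] at hw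
      exact hi (hw i (Finsupp.mem_support_iff.2 hi))
  rwa [hproj] at h0

theorem minimal_homogeneous {I P : Ideal (MvPolynomial (Fin (n + 1)) K)}
    (hI : I.IsHomogeneous (GrSyz.stdGr K (Fin (n + 1)))) (hP : P ∈ I.minimalPrimes) :
    P.IsHomogeneous (GrSyz.stdGr K (Fin (n + 1))) := by
  set 𝒜 := GrSyz.stdGr K (Fin (n + 1))
  have h1 : (P.homogeneousCore 𝒜).toIdeal.IsPrime := Ideal.IsPrime.homogeneousCore hP.1.1
  have h2 : I ≤ (P.homogeneousCore 𝒜).toIdeal := by
    conv_lhs => rw [← hI.toIdeal_homogeneousCore_eq_self]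
    exact fun x hx => Ideal.homogeneousCore_mono 𝒜 hP.1.2 hx
  rw [Ideal.IsHomogeneous.iff_eq]
  exact le_antisymm (Ideal.toIdeal_homogeneousCore_le 𝒜 P) (hP.2 ⟨h1, h2⟩ (Ideal.toIdeal_homogeneousCore_le 𝒜 P))

theorem dim_quotient_minimal {B : Type*} [CommRing B] (hB : LocCoh.IsCohenMacaulayLocalRing B) {p : Ideal B}
    (hp : p ∈ minimalPrimes B) : ringKrullDim (B ⧸ p) = ringKrullDim B := by
  haveI := hB.toIsLocalRing
  haveI : IsNoetherianRing B := hB.toIsNoetherian
  have hass : p ∈ associatedPrimes B B := by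
    refine Module.associatedPrimes.minimalPrimes_annihilator_subset_associatedPrimes B B ?_
    rwa [show Module.annihilator B B = ⊥ from eq_bot_iff.2 fun r hr => by simpa using Module.mem_annihilator.1 hr 1]
  exact (EGA4Alg4.ringKrullDim_quotient_assoc
    (show LocCoh.IsCohenMacaulayModule B B from hB.supportDim_eq_depth) hass).trans
    (Module.supportDim_self_eq_ringKrullDim B)

theorem exists_dim_eq_nat {B : Type*} [CommRing B] [IsLocalRing B] [IsNoetherianRing B] :
    ∃ a : ℕ, ringKrullDim B = a := by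
  obtain ⟨a, ha⟩ := ENat.ne_top_iff_exists.1 ((maximalIdeal B).height_ne_top Ideal.IsPrime.ne_top')
  exact ⟨a, by rw [← maximalIdeal_height_eq_ringKrullDim, ← ha]; rfl⟩

theorem dim_quot_of_minimal {L : Type*} [CommRing L] {I Q : Ideal L} (hq : LocCoh.IsCohenMacaulayLocalRing (L ⧸ I))
    (hQ : Q ∈ I.minimalPrimes) : ringKrullDim (L ⧸ Q) = ringKrullDim (L ⧸ I) := by
  have hle : I ≤ Q := hQ.1.2
  haveI := hQ.1.1
  haveI : (Q.map (Ideal.Quotient.mk I)).IsPrime :=
    Ideal.map_isPrime_of_surjective Ideal.Quotient.mk_surjective (by rw [Ideal.mk_ker]; exact hle)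
  have hcomap : (Q.map (Ideal.Quotient.mk I)).comap (Ideal.Quotient.mk I) = Q := by
    rw [Ideal.comap_map_of_surjective _ Ideal.Quotient.mk_surjective, ← RingHom.ker_eq_comap_bot, Ideal.mk_ker,
      sup_eq_left.2 hle]
  rw [← dim_quotient_minimal hq (p := Q.map (Ideal.Quotient.mk I)) ⟨⟨inferInstance, bot_le⟩, fun J hJ hJQ => ?_⟩]
  · exact (ringKrullDim_eq_of_ringEquiv (DoubleQuot.quotQuotEquivQuotOfLE hle)).symm
  haveI := hJ.1
  have h1 := hQ.2 (y := J.comap (Ideal.Quotient.mk I)) ⟨inferInstance, fun x hx => by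
    rw [Ideal.mem_comap, Ideal.Quotient.eq_zero_iff_mem.2 hx]; exact zero_mem _⟩
    ((Ideal.comap_mono hJQ).trans hcomap.le)
  exact Ideal.map_le_iff_le_comap.2 h1

/-- A homogeneous Cohen–Macaulay quotient of a polynomial ring is equidimensional. -/
theorem height_eq_of_minimal {I P : Ideal (MvPolynomial (Fin (n + 1)) K)}
    (hI : I.IsHomogeneous (GrSyz.stdGr K (Fin (n + 1)))) [LocCoh.IsCohenMacaulayRing (MvPolynomial (Fin (n + 1)) K ⧸ I)]
    (hP : P ∈ I.minimalPrimes) : P.height = I.height := by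
  set S := MvPolynomial (Fin (n + 1)) K
  suffices h : ∀ Q ∈ I.minimalPrimes, P.height = Q.height by
    refine le_antisymm ?_ (Ideal.height_mono hP.1.2)
    conv_rhs => rw [Ideal.height_eq_inf_minimalPrimes]
    exact le_iInf₂ fun Q hQ => (h Q hQ).le
  intro Q hQ
  let m : Ideal S := RingHom.ker (MvPolynomial.constantCoeff (σ := Fin (n + 1)) (R := K))
  haveI : m.IsPrime := RingHom.ker_isPrime _
  have hle : ∀ Q ∈ I.minimalPrimes, Q ≤ m := fun Q hQ f hf =>
    homog_coeff_zero (minimal_homogeneous hI hQ) hQ.1.1.ne_top f hf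
  haveI : LocCoh.IsCohenMacaulayRing S := LC17.isCohenMacaulayRing_of_isRegularRing
  have hIm : I ≤ m := hP.1.2.trans (hle P hP)
  haveI : (m.map (Ideal.Quotient.mk I)).IsPrime :=
    Ideal.map_isPrime_of_surjective Ideal.Quotient.mk_surjective (by rw [Ideal.mk_ker]; exact hIm)
  set L := Localization.AtPrime m
  obtain ⟨e⟩ := Grass54.nonempty_quotientLocEquiv S m I (m.map (Ideal.Quotient.mk I)) rfl hIm
  have hS := LocCoh.IsCohenMacaulayRing.isCohenMacaulayLocalRing_localization (R := S) m
  haveI : IsNoetherianRing L := hS.toIsNoetherian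
  have hq : LocCoh.IsCohenMacaulayLocalRing (L ⧸ I.map (algebraMap S L)) :=
    CAlg1.cm_of_ringEquiv e.symm (LocCoh.IsCohenMacaulayRing.isCohenMacaulayLocalRing_localization _)
  haveI := hq.toIsLocalRing
  haveI : IsNoetherianRing (L ⧸ I.map (algebraMap S L)) := hq.toIsNoetherian
  have key : ∀ Q ∈ I.minimalPrimes,
      ringKrullDim (L ⧸ I.map (algebraMap S L)) + (Q.height : WithBot ℕ∞) = ringKrullDim L := by
    intro Q hQ
    haveI := hQ.1.1
    have hdisj : Disjoint (m.primeCompl : Set S) Q := by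
      rw [Set.disjoint_left]
      exact fun x hx hxQ => hx (hle Q hQ hxQ)
    haveI : (Q.map (algebraMap S L)).IsPrime := IsLocalization.isPrime_of_isPrime_disjoint m.primeCompl L Q inferInstance hdisj
    have hQL : Q.map (algebraMap S L) ∈ (I.map (algebraMap S L)).minimalPrimes := by
      refine ⟨⟨inferInstance, Ideal.map_mono hQ.1.2⟩, fun J hJ hJQ => ?_⟩
      haveI := hJ.1
      have h1 : J.comap (algebraMap S L) ≤ Q := by
        exact (Ideal.comap_mono (f := algebraMap S L) hJQ).trans_eq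
          (IsLocalization.comap_map_of_isPrime_disjoint m.primeCompl L inferInstance hdisj)
      have h2 : Q ≤ J.comap (algebraMap S L) :=
        hQ.2 ⟨inferInstance, (Ideal.le_comap_map).trans (Ideal.comap_mono hJ.2)⟩ h1
      exact Ideal.map_le_iff_le_comap.2 h2
    have hht : (Q.map (algebraMap S L)).height = Q.height :=
      IsLocalization.height_map_of_disjoint m.primeCompl _ hdisj
    have h3 := EGA4H10.dim_quotient_add_height (Cyc90.coverSucc_of_cm hS) (Q.map (algebraMap S L))
    rw [hht] at h3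
    rw [← h3]
    congr 1
    exact (dim_quot_of_minimal hq hQL).symm
  have h1 := key P hP
  have h2 := key Q hQ
  obtain ⟨a, ha⟩ : ∃ a : ℕ, ringKrullDim (L ⧸ I.map (algebraMap S L)) = a :=
    exists_dim_eq_nat (B := L ⧸ I.map (algebraMap S L))
  rw [ha] at h1 h2
  obtain ⟨b, hb⟩ := ENat.ne_top_iff_exists.1 (P.height_ne_top hP.1.1.ne_top)
  obtain ⟨c, hc⟩ := ENat.ne_top_iff_exists.1 (Q.height_ne_top hQ.1.1.ne_top)
  rw [← h2] at h1
  rw [← hb, ← hc] at h1
  have : a + b = a + c := by exact_mod_cast h1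
  rw [← hb, ← hc]
  congr 1
  omega

end Groth.Agent.Liaison54
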