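import Mathlib
import Groth.Agent.Liaison54.Basic
import Groth.Agent.Grass54.CMQuot

/-!
Direct linkage and basic double links.
-/

set_option autoImplicit false
universe u

open IsLocalRing

namespace Groth.Agent.Liaison54

variable {R : Type u} [CommRing R] [IsNoetherianRing R]

omit [IsNoetherianRing R] in
theorem le_colon (c I : Ideal R) : c ≤ c.colon (I : Set R) := fun x hx =>
  Submodule.mem_colon.2 fun y _ => c.mul_mem_right y hx

theorem inf_eq_of_linked (c I J : Ideal R) [LocCoh.IsCohenMacaulayRing (R ⧸ c)]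
    (hIJ : c.colon (I : Set R) = J) (hJI : c.colon (J : Set R) = I)
    (hdisj : Disjoint (associatedPrimes R (R ⧸ I)) (associatedPrimes R (R ⧸ J))) : I ⊓ J = c := by
  have hcI : c ≤ I := hJI ▸ le_colon c J
  have hcJ : c ≤ J := hIJ ▸ le_colon c I
  refine le_antisymm (fun x hx => ?_) (le_inf hcI hcJ)
  by_contra hxc
  obtain ⟨P, hP, hle⟩ := exists_ass_colon hxc
  have hIP : I ≤ P := fun a ha => hle (Submodule.mem_colon_singleton.2 (by
    have h : x ∈ c.colon (I : Set R) := hIJ.symm ▸ hx.2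
    simpa [mul_comm] using Submodule.mem_colon.1 h a ha))
  have hJP : J ≤ P := fun a ha => hle (Submodule.mem_colon_singleton.2 (by
    have h : x ∈ c.colon (J : Set R) := hJI.symm ▸ hx.1
    simpa [mul_comm] using Submodule.mem_colon.1 h a ha))
  have hmin := ass_quot_minimal hP
  refine Set.disjoint_left.1 hdisj (minimal_mem_ass (P := P) ?_) (minimal_mem_ass (P := P) ?_)
  · exact ⟨⟨hmin.1.1, hIP⟩, fun Q hQ hQP => hmin.2 ⟨hQ.1, hcI.trans hQ.2⟩ hQP⟩
  · exact ⟨⟨hmin.1.1, hJP⟩, fun Q hQ hQP => hmin.2 ⟨hQ.1, hcJ.trans hQ.2⟩ hQP⟩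

theorem ass_colon_subset (c I : Ideal R) {P : Ideal R} (hP : P ∈ associatedPrimes R (R ⧸ c.colon (I : Set R))) :
    P ∈ associatedPrimes R (R ⧸ c) := by
  obtain ⟨hPp, x, hx⟩ := isAssociatedPrime_iff.1 hP
  obtain ⟨r, rfl⟩ := Ideal.Quotient.mk_surjective x
  rw [colon_bot_mk] at hx
  obtain ⟨s, hs⟩ := IsNoetherian.noetherian I
  have hinf : (s.inf fun g => c.colon {r * g}) ≤ P := by
    intro a ha
    rw [Submodule.mem_finsetInf] at ha
    rw [hx, Submodule.mem_colon_singleton]
    refine Submodule.mem_colon.2 fun y hy => ?_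
    rw [SetLike.mem_coe, ← hs] at hy
    induction hy using Submodule.span_induction with
    | mem g hg =>
      have := Submodule.mem_colon_singleton.1 (ha g hg)
      simpa [smul_eq_mul, mul_assoc] using this
    | zero => simp
    | add u v _ _ hu hv => rw [smul_add]; exact add_mem hu hv
    | smul t u _ hu => rw [smul_comm]; exact c.smul_mem t hu
  obtain ⟨g, hg, hgle⟩ := (hPp.inf_le').1 hinf
  have heq : P = c.colon {r * g} := by
    refine le_antisymm (fun a ha => ?_) hgle
    rw [hx, Submodule.mem_colon_singleton] at ha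
    have := Submodule.mem_colon.1 ha g (hs ▸ Submodule.subset_span hg)
    rw [Submodule.mem_colon_singleton]
    simpa [smul_eq_mul, mul_assoc] using this
  refine isAssociatedPrime_iff.2 ⟨hPp, Ideal.Quotient.mk c (r * g), ?_⟩
  rw [colon_bot_mk]
  exact heq

theorem colon_colon_eq (c I : Ideal R) [LocCoh.IsGorensteinRing (R ⧸ c)] (hcI : c ≤ I)
    (hass : ∀ P ∈ associatedPrimes R (R ⧸ I), P ∈ c.minimalPrimes) :
    c.colon ((c.colon (I : Set R) : Ideal R) : Set R) = I := by
  refine le_antisymm (fun x hx => ?_) (fun x hx => Submodule.mem_colon.2 fun y hy => by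
    simpa [mul_comm] using Submodule.mem_colon.1 hy x hx)
  by_contra hxI
  obtain ⟨P, hP, hle⟩ := exists_ass_colon hxI
  have hmin := hass P hP
  haveI := hmin.1.1
  set π := Ideal.Quotient.mk c
  haveI hp : (P.map π).IsPrime :=
    Ideal.map_isPrime_of_surjective Ideal.Quotient.mk_surjective (by rw [Ideal.mk_ker]; exact hmin.1.2)
  have hcomap : (P.map π).comap π = P := by
    rw [Ideal.comap_map_of_surjective _ Ideal.Quotient.mk_surjective, ← RingHom.ker_eq_comap_bot, Ideal.mk_ker,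
      sup_eq_left.2 hmin.1.2]
  have hpm : P.map π ∈ minimalPrimes (R ⧸ c) := by
    refine ⟨⟨hp, bot_le⟩, fun Q hQ hQP => ?_⟩
    haveI := hQ.1
    have h := hmin.2 (y := Q.comap π) ⟨inferInstance, fun a ha => by
      rw [Ideal.mem_comap, show π a = 0 from Ideal.Quotient.eq_zero_iff_mem.2 ha]; exact zero_mem _⟩
      ((Ideal.comap_mono hQP).trans hcomap.le)
    exact Ideal.map_le_iff_le_comap.2 h
  set A := Localization.AtPrime (P.map π)
  haveI : IsArtinianRing A := artinian_loc_minimal _ hpm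
  haveI : LocCoh.IsGorensteinLocalRing A :=
    LocCoh.IsGorensteinRing.isGorensteinLocalRing_localization (A := R ⧸ c) (P.map π)
  have hy : algebraMap (R ⧸ c) A (π x) ∈ (I.map π).map (algebraMap (R ⧸ c) A) := by
    refine annihilator_annihilator_le _ fun z hz => ?_
    obtain ⟨a, s, rfl⟩ := IsLocalization.exists_mk'_eq (P.map π).primeCompl z
    obtain ⟨a, rfl⟩ := Ideal.Quotient.mk_surjective a
    -- the colon element: `a` times a unit outside `P`
    obtain ⟨gs, hgs⟩ := IsNoetherian.noetherian I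
    have hex : ∀ g ∈ gs, ∃ t : R, t ∉ P ∧ t * (a * g) ∈ c := fun g hg => by
      have h := hz (algebraMap (R ⧸ c) A (π g))
        (Ideal.mem_map_of_mem _ (Ideal.mem_map_of_mem _ (hgs ▸ Submodule.subset_span hg)))
      rw [mul_comm, IsLocalization.mul_mk'_eq_mk'_of_mul, IsLocalization.mk'_eq_zero_iff] at h
      obtain ⟨⟨t, ht⟩, htz⟩ := h
      obtain ⟨t, rfl⟩ := Ideal.Quotient.mk_surjective t
      refine ⟨t, fun htP => ht (Ideal.mem_map_of_mem _ htP), ?_⟩
      have h2 : π (t * (g * a)) = 0 := by rw [map_mul, map_mul]; exact htz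
      rw [mul_comm a g]
      exact Ideal.Quotient.eq_zero_iff_mem.1 h2
    choose! t ht htc using hex
    have hT : (∏ g ∈ gs, t g) ∉ P := fun h => by
      obtain ⟨g, hg, hgP⟩ := (Ideal.IsPrime.prod_mem_iff (p := P)).1 h
      exact ht g hg hgP
    have hcol : (∏ g ∈ gs, t g) * a ∈ c.colon (I : Set R) := by
      refine Submodule.mem_colon.2 fun y hy => ?_
      rw [SetLike.mem_coe, ← hgs] at hy
      induction hy using Submodule.span_induction with
      | mem g hg =>
        obtain ⟨w, hw⟩ := Finset.dvd_prod_of_mem t hg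
        rw [smul_eq_mul, hw, show t g * w * a * g = w * (t g * (a * g)) by ring]
        exact c.mul_mem_left _ (htc g hg)
      | zero => simp
      | add u v _ _ hu hv => rw [smul_add]; exact add_mem hu hv
      | smul r u _ hu => rw [smul_comm]; exact c.smul_mem r hu
    have hxa := Submodule.mem_colon.1 hx _ hcol
    rw [IsLocalization.mul_mk'_eq_mk'_of_mul, IsLocalization.mk'_eq_zero_iff]
    refine ⟨⟨π (∏ g ∈ gs, t g), fun h => hT (hcomap ▸ Ideal.mem_comap.2 h)⟩, ?_⟩
    change π (∏ g ∈ gs, t g) * (π x * π a) = 0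
    rw [← map_mul, ← map_mul, Ideal.Quotient.eq_zero_iff_mem]
    simpa [smul_eq_mul, mul_left_comm, mul_comm] using hxa
  rw [IsLocalization.algebraMap_mem_map_algebraMap_iff (P.map π).primeCompl] at hy
  obtain ⟨s, hs, hsx⟩ := hy
  obtain ⟨s, rfl⟩ := Ideal.Quotient.mk_surjective s
  rw [← map_mul, ← Ideal.mem_comap, Ideal.comap_map_of_surjective _ Ideal.Quotient.mk_surjective,
    ← RingHom.ker_eq_comap_bot, Ideal.mk_ker, sup_eq_left.2 hcI] at hsx
  exact hs (Ideal.mem_map_of_mem _ (hle (Submodule.mem_colon_singleton.2 hsx)))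

variable {J I : Ideal R} {f : R}

theorem notMem_minimal (hJf : J.colon {f} = J) {Q : Ideal R} (hQ : Q ∈ J.minimalPrimes) : f ∉ Q := by
  intro hf
  obtain ⟨hQp, x, hx⟩ := isAssociatedPrime_iff.1 (minimal_mem_ass hQ)
  obtain ⟨r, rfl⟩ := Ideal.Quotient.mk_surjective x
  rw [colon_bot_mk] at hx
  rw [hx, Submodule.mem_colon_singleton] at hf
  have hr : r ∈ J := by
    rw [← hJf, Submodule.mem_colon_singleton]
    simpa [smul_eq_mul, mul_comm] using hf
  refine hQp.ne_top ((Ideal.eq_top_iff_one Q).2 ?_)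
  rw [hx, Submodule.mem_colon_singleton, one_smul]
  exact hr

theorem height_succ_le (hJf : J.colon {f} = J) {h : ℕ} (hJh : J.height = h) {P : Ideal R} [P.IsPrime]
    (hJP : J ≤ P) (hf : f ∈ P) : (h + 1 : ℕ) ≤ P.height := by
  obtain ⟨Q, hQ, hQP⟩ := Ideal.exists_minimalPrimes_le hJP
  haveI := hQ.1.1
  have h1 := Ideal.height_add_one_le_of_lt_of_isPrime (lt_of_le_of_ne hQP fun e => notMem_minimal hJf hQ (e ▸ hf))
  have h2 : (h : ℕ∞) ≤ Q.height := hJh ▸ Ideal.height_mono hQ.1.2
  push_cast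
  exact le_trans (add_le_add h2 le_rfl) h1

theorem height_bdl (hJI : J ≤ I) {h : ℕ} (hJh : J.height = h) (hIh : I.height = (h + 1 : ℕ))
    (hJf : J.colon {f} = J) : (J ⊔ Ideal.span {f} * I).height = (h + 1 : ℕ) := by
  refine le_antisymm (hIh ▸ Ideal.height_mono (sup_le hJI Ideal.mul_le_right)) ?_
  rw [Ideal.height_eq_inf_minimalPrimes]
  refine le_iInf₂ fun P hP => ?_
  haveI := hP.1.1
  by_cases hIP : I ≤ P
  · exact hIh ▸ Ideal.height_mono hIP
  · obtain ⟨a, haI, haP⟩ := Set.not_subset.1 hIP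
    refine height_succ_le hJf hJh (le_sup_left.trans hP.1.2) ?_
    exact (hP.1.1.mem_or_mem (hP.1.2 (Ideal.mem_sup_right
      (Ideal.mul_mem_mul (Ideal.mem_span_singleton_self f) haI)))).resolve_right haP

omit [IsNoetherianRing R] in
theorem mul_mem_bdl_iff (hJI : J ≤ I) (hJf : J.colon {f} = J) (r : R) :
    f * r ∈ J ⊔ Ideal.span {f} * I ↔ r ∈ I := by
  refine ⟨fun h => ?_, fun h => Ideal.mem_sup_right (Ideal.mul_mem_mul (Ideal.mem_span_singleton_self f) h)⟩
  obtain ⟨j, hj, z, hz, hjz⟩ := Submodule.mem_sup.1 h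
  obtain ⟨i, hi, rfl⟩ := Ideal.mem_span_singleton_mul.1 hz
  have hri : r - i ∈ J := by
    rw [← hJf, Submodule.mem_colon_singleton, smul_eq_mul, show (r - i) * f = j by linear_combination -hjz]
    exact hj
  simpa using add_mem (hJI hri) hi

omit [IsNoetherianRing R] in
theorem colon_smul_bdl (hJI : J ≤ I) (hJf : J.colon {f} = J) (r : R) :
    (J ⊔ Ideal.span {f} * I).colon {f * r} = I.colon {r} := by
  ext a
  rw [Submodule.mem_colon_singleton, Submodule.mem_colon_singleton, smul_eq_mul, smul_eq_mul, mul_left_comm,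
    mul_mem_bdl_iff hJI hJf]

theorem ass_bdl_of_ass (hJI : J ≤ I) (hJf : J.colon {f} = J) {P : Ideal R}
    (hP : P ∈ associatedPrimes R (R ⧸ I)) : P ∈ associatedPrimes R (R ⧸ (J ⊔ Ideal.span {f} * I)) := by
  obtain ⟨hPp, x, hx⟩ := isAssociatedPrime_iff.1 hP
  obtain ⟨r, rfl⟩ := Ideal.Quotient.mk_surjective x
  refine isAssociatedPrime_iff.2 ⟨hPp, Ideal.Quotient.mk _ (f * r), ?_⟩
  rw [colon_bot_mk, colon_smul_bdl hJI hJf, ← colon_bot_mk, hx]

theorem ass_or_of_ass_bdl (hJI : J ≤ I) (hJf : J.colon {f} = J) {P : Ideal R}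
    (hP : P ∈ associatedPrimes R (R ⧸ (J ⊔ Ideal.span {f} * I))) :
    P ∈ associatedPrimes R (R ⧸ I) ∨ P ∈ associatedPrimes R (R ⧸ (J ⊔ Ideal.span {f})) := by
  set I' := J ⊔ Ideal.span {f} * I
  obtain ⟨hPp, x, hx⟩ := isAssociatedPrime_iff.1 hP
  obtain ⟨r, rfl⟩ := Ideal.Quotient.mk_surjective x
  rw [colon_bot_mk] at hx
  have hle : I' ≤ J ⊔ Ideal.span {f} := sup_le_sup_left Ideal.mul_le_left _
  by_cases h : ∀ a, a * r ∈ J ⊔ Ideal.span {f} → a ∈ P
  · right
    refine isAssociatedPrime_iff.2 ⟨hPp, Ideal.Quotient.mk _ r, ?_⟩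
    rw [colon_bot_mk]
    refine le_antisymm (fun a ha => ?_) fun a ha => h a (Submodule.mem_colon_singleton.1 ha)
    rw [hx, Submodule.mem_colon_singleton] at ha
    exact Submodule.mem_colon_singleton.2 (hle ha)
  · left
    push Not at h
    obtain ⟨a, ha, haP⟩ := h
    obtain ⟨j, hj, z, hz, hjz⟩ := Submodule.mem_sup.1 ha
    obtain ⟨w, rfl⟩ := Ideal.mem_span_singleton.1 hz
    refine isAssociatedPrime_iff.2 ⟨hPp, Ideal.Quotient.mk _ w, ?_⟩
    rw [colon_bot_mk]
    ext b
    rw [Submodule.mem_colon_singleton, smul_eq_mul, ← mul_mem_bdl_iff hJI hJf, hx, Submodule.mem_colon_singleton,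
      smul_eq_mul]
    constructor
    · intro hb
      rw [show f * (b * w) = a * (b * r) - b * j by linear_combination b * hjz]
      exact sub_mem (I'.mul_mem_left a hb) (I'.mul_mem_left b (Ideal.mem_sup_left hj))
    · intro hb
      have hab : a * b * r ∈ I' := by
        rw [show a * b * r = f * (b * w) + b * j by linear_combination -b * hjz]
        exact add_mem hb (I'.mul_mem_left b (Ideal.mem_sup_left hj))
      have : a * b ∈ P := by rw [hx, Submodule.mem_colon_singleton]; exact hab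
      have hbP := (hPp.mem_or_mem this).resolve_left haP
      rw [hx, Submodule.mem_colon_singleton] at hbP
      exact hbP

section Poly

variable {K : Type u} [Field K] {n : ℕ}

theorem cm_sup_span {S : Type u} [CommRing S] (J : Ideal S) (f : S) [LocCoh.IsCohenMacaulayRing (S ⧸ J)]
    (hJf : J.colon {f} = J) : LocCoh.IsCohenMacaulayRing (S ⧸ (J ⊔ Ideal.span {f})) := by
  have hreg : IsSMulRegular (S ⧸ J) (Ideal.Quotient.mk J f) := by
    rw [isSMulRegular_iff_right_eq_zero_of_smul]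
    intro y hy
    obtain ⟨r, rfl⟩ := Ideal.Quotient.mk_surjective y
    rw [smul_eq_mul, ← map_mul, Ideal.Quotient.eq_zero_iff_mem] at hy
    refine Ideal.Quotient.eq_zero_iff_mem.2 ?_
    rw [← hJf, Submodule.mem_colon_singleton, smul_eq_mul, mul_comm]
    exact hy
  have h := Grass54.cm_quotient_of_regular (Ideal.Quotient.mk J f) hreg
  refine CAlg1.cmRing_of_ringEquiv ?_ h
  exact (Ideal.quotEquivOfEq (by rw [Ideal.map_span, Set.image_singleton])).trans (DoubleQuot.quotQuotEquivQuotSup J (Ideal.span {f}))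

theorem height_le_succ_of_minimal {S : Type u} [CommRing S] [IsNoetherianRing S] [LocCoh.IsCohenMacaulayRing S]
    {Q p : Ideal S} [Q.IsPrime] [p.IsPrime] {f : S} (hQp : Q ≤ p) (hp : p ∈ (Q ⊔ Ideal.span {f}).minimalPrimes) :
    p.height ≤ Q.height + 1 := by
  set π := Ideal.Quotient.mk Q
  haveI : (p.map π).IsPrime := Ideal.map_isPrime_of_surjective Ideal.Quotient.mk_surjective (by rw [Ideal.mk_ker]; exact hQp)
  have hcomap : (p.map π).comap π = p := by
    rw [Ideal.comap_map_of_surjective _ Ideal.Quotient.mk_surjective, ← RingHom.ker_eq_comap_bot, Ideal.mk_ker,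
      sup_eq_left.2 hQp]
  have hpm : p.map π ∈ (Ideal.span {π f}).minimalPrimes := by
    refine ⟨⟨inferInstance, ?_⟩, fun P hP hPp => ?_⟩
    · rw [Ideal.span_le, Set.singleton_subset_iff]
      exact Ideal.mem_map_of_mem _ (hp.1.2 (Ideal.mem_sup_right (Ideal.mem_span_singleton_self f)))
    haveI := hP.1
    have h := hp.2 (y := P.comap π) ⟨inferInstance, sup_le (fun a ha => by
      rw [Ideal.mem_comap, show π a = 0 from Ideal.Quotient.eq_zero_iff_mem.2 ha]; exact zero_mem _)
      (by rw [Ideal.span_le, Set.singleton_subset_iff]; exact hP.2 (Ideal.mem_span_singleton_self _))⟩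
      ((Ideal.comap_mono hPp).trans hcomap.le)
    exact Ideal.map_le_iff_le_comap.2 h
  have h1 : (p.map π).height ≤ 1 := Ideal.height_le_one_of_isPrincipal_of_mem_minimalPrimes _ _ hpm
  set L := Localization.AtPrime p
  have hS := LocCoh.IsCohenMacaulayRing.isCohenMacaulayLocalRing_localization (R := S) p
  haveI : IsNoetherianRing L := hS.toIsNoetherian
  have hdisj : Disjoint (p.primeCompl : Set S) Q := Set.disjoint_left.2 fun x hx hxQ => hx (hQp hxQ)
  haveI : (Q.map (algebraMap S L)).IsPrime :=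
    IsLocalization.isPrime_of_isPrime_disjoint p.primeCompl L Q inferInstance hdisj
  have h2 := EGA4H10.dim_quotient_add_height (Cyc90.coverSucc_of_cm hS) (Q.map (algebraMap S L))
  obtain ⟨e⟩ := Grass54.nonempty_quotientLocEquiv S p Q (p.map π) rfl hQp
  rw [show (Q.map (algebraMap S L)).height = Q.height from IsLocalization.height_map_of_disjoint p.primeCompl _ hdisj,
    IsLocalization.AtPrime.ringKrullDim_eq_height p L] at h2
  have h3 : ringKrullDim (L ⧸ Q.map (algebraMap S L)) = ((p.map π).height : WithBot ℕ∞) :=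
    (ringKrullDim_eq_of_ringEquiv e).trans (IsLocalization.AtPrime.ringKrullDim_eq_height (p.map π) _)
  have h4 : (p.map π).height + Q.height = p.height := WithBot.coe_inj.1 (by
    rw [WithBot.coe_add, ← h3]; exact h2)
  rw [← h4, add_comm Q.height]
  exact add_le_add h1 le_rfl

theorem unmixed_bdl_iff {S : Type u} [CommRing S] [IsNoetherianRing S] [LocCoh.IsCohenMacaulayRing S] {J I : Ideal S} {f : S} (hJI : J ≤ I)
    (hJf : J.colon {f} = J) {h : ℕ} [LocCoh.IsCohenMacaulayRing (S ⧸ J)]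
    (heq : ∀ Q ∈ J.minimalPrimes, Q.height = h) :
    (∀ p ∈ associatedPrimes S (S ⧸ I), p.height = (h + 1 : ℕ)) ↔
      ∀ p ∈ associatedPrimes S (S ⧸ (J ⊔ Ideal.span {f} * I)), p.height = (h + 1 : ℕ) := by
  refine ⟨fun hI p hp => ?_, fun hI p hp => hI p (ass_bdl_of_ass hJI hJf hp)⟩
  rcases ass_or_of_ass_bdl hJI hJf hp with h1 | h1
  · exact hI p h1
  haveI := cm_sup_span J f hJf
  have hmin := ass_quot_minimal h1
  haveI := hmin.1.1
  have hJh : J.height = h := by
    obtain ⟨Q, hQ, -⟩ := Ideal.exists_minimalPrimes_le (le_sup_left.trans hmin.1.2)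
    rw [Ideal.height_eq_inf_minimalPrimes]
    exact le_antisymm ((iInf₂_le Q hQ).trans (heq Q hQ).le) (le_iInf₂ fun Q hQ => (heq Q hQ).ge)
  refine le_antisymm ?_ (height_succ_le hJf hJh (le_sup_left.trans hmin.1.2)
    (hmin.1.2 (Ideal.mem_sup_right (Ideal.mem_span_singleton_self f))))
  obtain ⟨Q, hQ, hQp⟩ := Ideal.exists_minimalPrimes_le (le_sup_left.trans hmin.1.2)
  haveI := hQ.1.1
  have hpQ : p ∈ (Q ⊔ Ideal.span {f}).minimalPrimes :=
    ⟨⟨hmin.1.1, sup_le hQp (le_sup_right.trans hmin.1.2)⟩,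
      fun P hP hPp => hmin.2 ⟨hP.1, (sup_le_sup_right hQ.1.2 _).trans hP.2⟩ hPp⟩
  have hmem : f ∈ p := hmin.1.2 (Ideal.mem_sup_right (Ideal.mem_span_singleton_self f))
  have h3 := height_le_succ_of_minimal hQp hpQ
  rw [heq Q hQ] at h3
  exact_mod_cast h3

end Poly

end Groth.Agent.Liaison54
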